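import Cfsg.Agent.Omega.NOThreeL.RWide.ParQ.I
import Cfsg.Agent.Omega.NOThreeL.RWide.UniT.CaseOne

/-!
# The passive case of PAR, (A1) (helper528 #27296, helper801 #27718)

`T = TT S N`, `D = C_G(Ω₁Z(T))`, `O = O₂(D)`, `P ∈ 𝒫(T)`, `P ≤ Y_j` moves `F j`.

* `mx_AA`, `AA_mx` : `Mx` and `AA`;
* `mx_of` : the members of `𝒜(O₂(D'))` and `𝒜(O₂(C_G(Z_J)))` agree for `C_G(Z_J) ≤ D' ≤ N_G(Z_J)` (no `V`);
* `cj_of` : `V ∩ C(J(O)) ≤ Z_J` if every block is moved by a member of `𝒜(O)`;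
* **`norm_J`** : a group `U` with `Ω₁Z(T) ≤ U ≤ Z_J` normalised by `P`: `P ≤ N_G(J(O))`;
* **`case_U`** : then `P` normalises all blocks.
-/

set_option autoImplicit false
set_option linter.unusedSectionVars false

namespace Cfsg.Agent.Omega.NOThreeL.RWide.ParQ

open Subgroup Cfsg Cfsg.Agent.Omega.MinPar
open Cfsg.Agent.ZN (zc zl o2 jj)
open Cfsg.Agent.ZN.ChoiceBase (cj cj_mono cj_inf cj_centralizer cj_eq_of_mem_normalizer mem_cj mem_normalizer_iff_cj
  cj_cj_inv cj_inv_cj cj_cj cj_one mem_zc isPGroup_cj card_cj AA jj_eq jj_le jj_cj le_jj normalizer_le_of_cj)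
open Cfsg.Agent.ZN.ChoiceSit (Syl)
open Cfsg.Agent.MinSimple.MinParabolic (IsMinPar)
open Cfsg.Agent.MinSimple.VModule (zc_le le_centralizer_zc le_normalizer_o2 o2_isPGroup le_o2 o2_le zc_le_zl
  le_normalizer_zl)
open Cfsg.Agent.Omega.NoFF.Basic (comm_symm)
open Cfsg.Agent.Omega.NOThreeL.RWide.TBlk (NB Bls)
open Cfsg.Agent.Omega.NOThreeL.RWide.TAct (TT BB Tf OT)
open Cfsg.Agent.Omega.KL.TwoS (Mx)

universe u v

variable {G : Type u} [Group G]

theorem mx_AA [Finite G] {O A : Subgroup G} (h : Mx O A) : A ∈ AA O := by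
  refine ⟨⟨⟨⟨fun a b => Subtype.ext ?_⟩⟩, h.sq⟩, h.le, fun B hB hBO => h.max B hBO hB.2⟩
  exact mem_centralizer_iff.1 (h.comm b.2) a a.2

theorem AA_mx [Finite G] {O A : Subgroup G} (h : A ∈ AA O) : Mx O A := by
  obtain ⟨B, hB⟩ := Mx.exists_mx O
  exact hB.of_card h.2.1 h.1.2 (h.2.2 B (mx_AA hB).1 hB.le)

/-- the same elementary abelian subgroups of maximal order -/
theorem mx_of [Finite G] {ZJ D' A : Subgroup G} (DJ : centralizer (ZJ : Set G) ≤ D')
    (Dn : D' ≤ normalizer (ZJ : Set G)) (off : ∀ A : Subgroup G, Mx (o2 D') A → A ≤ centralizer (ZJ : Set G)) :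
    Mx (o2 D') A ↔ Mx (o2 (centralizer (ZJ : Set G))) A := by
  have h1 := UniT.o2_le_of DJ Dn
  have h2 : ∀ A : Subgroup G, Mx (o2 D') A → Mx (o2 (centralizer (ZJ : Set G))) A := by
    intro A hA
    have h4 : o2 D' ⊓ centralizer (ZJ : Set G) ≤ o2 (centralizer (ZJ : Set G)) := by
      refine le_o2 inf_le_right ((o2_isPGroup _).to_le inf_le_left) fun d hd => ?_
      rw [mem_normalizer_iff_cj, cj_inf, cj_eq_of_mem_normalizer (le_normalizer_o2 _ (DJ hd)),
        cj_eq_of_mem_normalizer (Subgroup.le_normalizer hd)]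
    exact ⟨(le_inf hA.le (off A hA)).trans h4, hA.sq, fun B hB hB2 => hA.max B (hB.trans h1) hB2⟩
  refine ⟨h2 A, fun hA => ?_⟩
  obtain ⟨A', hA'⟩ := Mx.exists_mx (o2 D')
  exact hA'.of_card (hA.le.trans h1) hA.sq (hA.max A' (h2 A' hA').le hA'.sq)

section tfm

variable {ι : Type v} [Finite G] {S : Sylow 2 G} {V : Subgroup G} {N l E : ι → Subgroup G} [Finite ι] [Nonempty ι]

/-- a 2-group `A ≤ T` which is exact on every block centralises `Z_J` -/
theorem exact_cent (h : TFm S V N l E) {A : Subgroup G} (hA : A ≤ TT (S : Subgroup G) N) (hA2 : ∀ a ∈ A, a ^ 2 = 1)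
    (he : ∀ b, (centralizer (A : Set G)).relIndex (N b) ≤ (centralizer (N b : Set G)).relIndex A) :
    A ≤ centralizer ((⨆ b, l b : Subgroup G) : Set G) := by
  refine comm_symm (iSup_le fun b => comm_symm ?_)
  obtain ⟨F', _, _, _, e, hb⟩ := h.nat b
  exact line_cent hb (hA.trans inf_le_left) (hA.trans (inf_le_right.trans (iInf_le _ b)))
    (fun a ha => by rw [hA2 a ha]; exact one_mem _) (he b)

omit [Finite G] [Nonempty ι] in
/-- an element of `T` which centralises `l b` and a vector `v` with `N b`-component off `l b` centralises `N b` -/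
theorem root_act {S : Subgroup G} {F : ι → Type} [∀ b, Field (F b)] {x y : G → ∀ b, F b}
    (K : TBlk.Kd S V N l E x y) {b : ι} {s : G} (hs : s ∈ TT S N) (hsc : s ∈ centralizer (l b : Set G)) {v : G}
    (hv : v ∈ V) (hvy : y v b ≠ 0) (hsv : s * v = v * s) : s ∈ centralizer (N b : Set G) := by
  have hsN : s ∈ normalizer (N b : Set G) := (iInf_le _ b : _ ≤ normalizer (N b : Set G)) hs.2
  obtain ⟨σ, a, c, d, hact⟩ := K.semi s hs.1 b hsN
  have hline : ∀ t : F b, a * σ t = t := by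
    intro t
    obtain ⟨w, hw, hwx⟩ := K.exists_x b t
    have h2 : s * w * s⁻¹ = w := by
      rw [← mem_centralizer_iff.1 hsc w hw, mul_inv_cancel_right]
    have h1 := (hact w (K.lV b hw)).1
    rw [h2, hwx, ((K.meml b w).1 hw).2.2 b, map_zero, mul_zero, add_zero] at h1
    exact h1.symm
  have ha : a = 1 := by simpa using hline 1
  have hσ : ∀ t, σ t = t := fun t => by simpa [ha] using hline t
  have h2 : s * v * s⁻¹ = v := by rw [hsv, mul_inv_cancel_right]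
  obtain ⟨h3, h4⟩ := hact v hv
  rw [h2, ha, hσ, hσ, one_mul] at h3
  rw [h2, hσ] at h4
  have hc : c = 0 := (mul_eq_zero.1 (left_eq_add.1 h3)).resolve_right hvy
  have hd : d = 1 := by
    have h5 : (d - 1) * y v b = 0 := by rw [sub_mul, one_mul, ← h4, sub_self]
    exact sub_eq_zero.1 ((mul_eq_zero.1 h5).resolve_right hvy)
  rw [mem_centralizer_iff]
  intro w hw
  have hw' : s * w * s⁻¹ ∈ N b := (mem_normalizer_iff.1 hsN w).1 hw
  obtain ⟨h5, h6⟩ := hact w (K.NV b hw)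
  rw [ha, hc, hσ, one_mul, zero_mul, add_zero] at h5
  rw [hd, hσ, one_mul] at h6
  obtain ⟨-, n1, n2⟩ := (K.memN b w).1 hw
  obtain ⟨-, n3, n4⟩ := (K.memN b _).1 hw'
  have h8 : s * w * s⁻¹ = w := by
    refine K.ext (K.NV b hw') (K.NV b hw) (fun c => ?_) fun c => ?_
    · by_cases e : c = b
      · subst e; exact h5
      · rw [n1 c e, n3 c e]
    · by_cases e : c = b
      · subst e; exact h6
      · rw [n2 c e, n4 c e]
  calc w * s = (s * w * s⁻¹) * s := by rw [h8]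
    _ = s * w := by group

/-- `V ∩ C(J(O)) ≤ Z_J` if every block is moved by a member of `𝒜(O)` -/
theorem cj_of (h : TFm S V N l E) {O : Subgroup G} (hO : O ≤ TT (S : Subgroup G) N)
    (cent : ∀ A : Subgroup G, Mx O A → A ≤ centralizer ((⨆ b, l b : Subgroup G) : Set G))
    (allT : ∀ b, ∃ A, Mx O A ∧ ¬ A ≤ centralizer (N b : Set G)) :
    V ⊓ centralizer (jj O : Set G) ≤ ⨆ b, l b := by
  obtain ⟨F, _, _, _, x, y, K⟩ := h.toBls.exists_kd
  rintro v ⟨hv, hvc⟩
  refine K.memZ.2 ⟨hv, fun b => ?_⟩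
  by_contra hne
  obtain ⟨A, hA, hAN⟩ := allT b
  refine hAN fun s hs => root_act K (hO (hA.le hs)) (centralizer_le (le_iSup l b) (cent A hA hs)) hv hne ?_
  exact mem_centralizer_iff.1 hvc s (le_jj (mx_AA hA) hs)

theorem N_le_O (h : TFm S V N l E) (hc : IsCharacteristicTwoType G) (three : ∀ i j : ι, ∃ k, k ≠ i ∧ k ≠ j) (b : ι) :
    N b ≤ OT (TT (S : Subgroup G) N) := by
  have h1 := cj_le_O h hc three (j := b) (one_mem _) b
  rwa [cj_one] at h1

/-- `C_G(Z_J) ≤ C_G(Ω₁Z(T))` -/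
theorem DJ_le (h : TFm S V N l E) : centralizer ((⨆ b, l b : Subgroup G) : Set G) ≤
    centralizer (zc (TT (S : Subgroup G) N) : Set G) := centralizer_le (by exact_mod_cast (toTf h).zcT_le_R)

/-- `N b ≤ O₂(C_G(Z_J))` -/
theorem N_le_DJ (h : TFm S V N l E) (hc : IsCharacteristicTwoType G) (three : ∀ i j : ι, ∃ k, k ≠ i ∧ k ≠ j) (b : ι) :
    N b ≤ o2 (centralizer ((⨆ b, l b : Subgroup G) : Set G)) := by
  have h2 : OT (TT (S : Subgroup G) N) ⊓ centralizer ((⨆ b, l b : Subgroup G) : Set G) ≤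
      o2 (centralizer ((⨆ b, l b : Subgroup G) : Set G)) := by
    refine le_o2 inf_le_right ((o2_isPGroup _).to_le inf_le_left) fun d hd => ?_
    rw [mem_normalizer_iff_cj, cj_inf, cj_eq_of_mem_normalizer (le_normalizer_o2 _ (DJ_le h hd)),
      cj_eq_of_mem_normalizer (Subgroup.le_normalizer hd)]
  refine (le_inf (N_le_O h hc three b) ?_).trans h2
  exact ((toTf h).NV b).trans ((toTf h).com.trans (centralizer_le (by exact_mod_cast (toTf h).RV)))

/-- members of `𝒜(O₂(D'))` centralise `Z_J` -/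
theorem cent_of (h : TFm S V N l E) (hc : IsCharacteristicTwoType G) (three : ∀ i j : ι, ∃ k, k ≠ i ∧ k ≠ j)
    {D' : Subgroup G} (DJ : centralizer ((⨆ b, l b : Subgroup G) : Set G) ≤ D')
    (Dn : D' ≤ normalizer ((⨆ b, l b : Subgroup G) : Set G)) (hO : o2 D' ≤ TT (S : Subgroup G) N) {A : Subgroup G}
    (hA : Mx (o2 D') A) : A ≤ centralizer ((⨆ b, l b : Subgroup G) : Set G) :=
  exact_cent h (hA.le.trans hO) hA.sq fun b =>
    hA.thom ((N_le_DJ h hc three b).trans (UniT.o2_le_of DJ Dn)) fun _ hx => sqN h b hx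

omit [Nonempty ι] in
/-- `C_G(Ω₁Z(S)) ≤ N_G(Z_J)` -/
theorem CS_le_nZ {S : Subgroup G} {l : ι → Subgroup G}
    (ln : ∀ c ∈ centralizer (zc S : Set G), ∀ b, ∃ b', cj c (l b) = l b') :
    centralizer (zc S : Set G) ≤ normalizer ((⨆ b, l b : Subgroup G) : Set G) := by
  intro c hc
  refine Cfsg.Agent.ZN.ChoiceBase.mem_normalizer_of_cj_le ?_
  rw [cj, Subgroup.map_iSup]
  refine iSup_le fun b => ?_
  obtain ⟨b', hb'⟩ := ln c hc b
  exact (le_of_eq hb').trans (le_iSup l b')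

/-- `C_G(Ω₁Z(T)) ≤ N_G(Z_J)` -/
theorem D_le_nZ (h : TFm S V N l E)
    (ln : ∀ c ∈ centralizer (zc (S : Subgroup G) : Set G), ∀ b, ∃ b', cj c (l b) = l b') :
    centralizer (zc (TT (S : Subgroup G) N) : Set G) ≤ normalizer ((⨆ b, l b : Subgroup G) : Set G) :=
  (centralizer_le (by exact_mod_cast (toTf h).Z_le_zcT)).trans (CS_le_nZ ln)

/-- `T` is Sylow in `D` -/
theorem syl_D (h : TFm S V N l E) : Syl (TT (S : Subgroup G) N) (centralizer (zc (TT (S : Subgroup G) N) : Set G)) :=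
  UniT.syl_of_odd (toTf h).T2 (le_centralizer_zc _) ((toTf h).syl_sub (j := Classical.arbitrary ι) (le_centralizer_zc _)
    (le_YY fun b _ => centralizer_le (by exact_mod_cast (toTf h).F_le b)))

theorem OT_le (h : TFm S V N l E) : OT (TT (S : Subgroup G) N) ≤ TT (S : Subgroup G) N :=
  Cfsg.Agent.ZN.ChoiceSit.o2_le_syl (syl_D h)

/-- members of `𝒜(O)` centralise `Z_J` -/
theorem cent_O (h : TFm S V N l E) (hc : IsCharacteristicTwoType G) (three : ∀ i j : ι, ∃ k, k ≠ i ∧ k ≠ j)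
    (ln : ∀ c ∈ centralizer (zc (S : Subgroup G) : Set G), ∀ b, ∃ b', cj c (l b) = l b') {A : Subgroup G}
    (hA : Mx (OT (TT (S : Subgroup G) N)) A) : A ≤ centralizer ((⨆ b, l b : Subgroup G) : Set G) :=
  cent_of h hc three (DJ_le h) (D_le_nZ h ln) (OT_le h) hA

/-- **`P` normalises `J(O)`** if it normalises a group between `Ω₁Z(T)` and `Z_J` -/
theorem norm_J (h : TFm S V N l E) (hc : IsCharacteristicTwoType G) (three : ∀ i j : ι, ∃ k, k ≠ i ∧ k ≠ j)
    (ln : ∀ c ∈ centralizer (zc (S : Subgroup G) : Set G), ∀ b, ∃ b', cj c (l b) = l b') {P U : Subgroup G}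
    (hTP : TT (S : Subgroup G) N ≤ P) (hU1 : zc (TT (S : Subgroup G) N) ≤ U) (hU2 : U ≤ ⨆ b, l b)
    (hPU : P ≤ normalizer (U : Set G)) : P ≤ normalizer (jj (OT (TT (S : Subgroup G) N)) : Set G) := by
  have DJ : centralizer ((⨆ b, l b : Subgroup G) : Set G) ≤ centralizer (U : Set G) :=
    centralizer_le (by exact_mod_cast hU2)
  have D'D : centralizer (U : Set G) ≤ centralizer (zc (TT (S : Subgroup G) N) : Set G) :=
    centralizer_le (by exact_mod_cast hU1)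
  have hPO : P ≤ normalizer (o2 (centralizer (U : Set G)) : Set G) :=
    (hPU.trans UniT.norm_cent).trans (Cfsg.Agent.Omega.normalizer_le_normalizer_o2' _)
  have hO : o2 (centralizer (U : Set G)) ≤ TT (S : Subgroup G) N := by
    have h1 : IsPGroup 2 (TT (S : Subgroup G) N ⊔ o2 (centralizer (U : Set G)) : Subgroup G) :=
      IsPGroup.to_sup_of_normal_right' (toTf h).T2 (o2_isPGroup _) (hTP.trans hPO)
    have h2 := (syl_D h).2.2 _ (sup_le (le_centralizer_zc _) ((o2_le _).trans D'D)) h1 le_sup_left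
    rw [← h2]
    exact le_sup_right
  have key : ∀ A, Mx (o2 (centralizer (U : Set G))) A ↔ Mx (OT (TT (S : Subgroup G) N)) A := fun A =>
    (mx_of DJ (D'D.trans (D_le_nZ h ln)) fun A hA => cent_of h hc three DJ (D'D.trans (D_le_nZ h ln)) hO hA).trans
      (mx_of (DJ_le h) (D_le_nZ h ln) fun A hA => cent_O h hc three ln hA).symm
  have e : jj (o2 (centralizer (U : Set G))) = jj (OT (TT (S : Subgroup G) N)) := by
    rw [jj_eq, jj_eq]
    congr 1
    ext A
    exact ⟨fun hA => mx_AA ((key A).1 (AA_mx hA)), fun hA => mx_AA ((key A).2 (AA_mx hA))⟩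
  rw [← e]
  intro p hp
  exact normalizer_le_of_cj (F := jj) jj_cj _ (hPO hp)

/-- `N_G(J(O)) ≤ N_G(Z_J)` -/
theorem nJ_le (h : TFm S V N l E) (hc : IsCharacteristicTwoType G) (three : ∀ i j : ι, ∃ k, k ≠ i ∧ k ≠ j)
    (ln : ∀ c ∈ centralizer (zc (S : Subgroup G) : Set G), ∀ b, ∃ b', cj c (l b) = l b')
    (allT : ∀ b, ∃ A, Mx (OT (TT (S : Subgroup G) N)) A ∧ ¬ A ≤ centralizer (N b : Set G)) :
    normalizer (jj (OT (TT (S : Subgroup G) N)) : Set G) ≤ normalizer ((⨆ b, l b : Subgroup G) : Set G) := by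
  refine (toTf h).J_le ?_ (cj_of h (OT_le h) (fun A hA => cent_O h hc three ln hA) allT) (CS_le_nZ ln)
  rw [jj_eq]
  exact sSup_le fun A hA => cent_O h hc three ln (AA_mx hA)

/-- **(A1)** `P ∈ 𝒫(T)` in `Y_j` moves `F j` and normalises a group between `Ω₁Z(T)` and `Z_J`: `P` normalises all blocks. -/
theorem case_U (h : TFm S V N l E) (hc : IsCharacteristicTwoType G) (three : ∀ i j : ι, ∃ k, k ≠ i ∧ k ≠ j)
    (ln : ∀ c ∈ centralizer (zc (S : Subgroup G) : Set G), ∀ b, ∃ b', cj c (l b) = l b')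
    (allT : ∀ b, ∃ A, Mx (OT (TT (S : Subgroup G) N)) A ∧ ¬ A ≤ centralizer (N b : Set G))
    {j : ι} {P U : Subgroup G} (hP : IsMinPar (TT (S : Subgroup G) N) P)
    (hPX : P ≤ YY (TAct.FF (S : Subgroup G) N l) j)
    (hm : ¬ P ≤ centralizer (TAct.FF (S : Subgroup G) N l j : Set G)) (hU1 : zc (TT (S : Subgroup G) N) ≤ U)
    (hU2 : U ≤ ⨆ b, l b) (hPU : P ≤ normalizer (U : Set G)) (b : ι) : P ≤ normalizer (N b : Set G) :=
  (toTf h).norm_of_R hP hPX ((norm_J h hc three ln hP.le hU1 hU2 hPU).trans (nJ_le h hc three ln allT)) hm b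

/-- (A1) with `U = zl T P` -/
theorem case_zl (h : TFm S V N l E) (hc : IsCharacteristicTwoType G) (three : ∀ i j : ι, ∃ k, k ≠ i ∧ k ≠ j)
    (ln : ∀ c ∈ centralizer (zc (S : Subgroup G) : Set G), ∀ b, ∃ b', cj c (l b) = l b')
    (allT : ∀ b, ∃ A, Mx (OT (TT (S : Subgroup G) N)) A ∧ ¬ A ≤ centralizer (N b : Set G))
    {j : ι} {P : Subgroup G} (hP : IsMinPar (TT (S : Subgroup G) N) P)
    (hPX : P ≤ YY (TAct.FF (S : Subgroup G) N l) j)
    (hm : ¬ P ≤ centralizer (TAct.FF (S : Subgroup G) N l j : Set G))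
    (hU : zl (TT (S : Subgroup G) N) P ≤ ⨆ b, l b) (b : ι) : P ≤ normalizer (N b : Set G) :=
  case_U h hc three ln allT hP hPX hm (zc_le_zl _ _) hU (le_normalizer_zl _ _) b

end tfm

end Cfsg.Agent.Omega.NOThreeL.RWide.ParQ
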