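import Cfsg.Agent.Omega.NOThreeL.RWide.UniT.Plug
import Cfsg.Agent.Omega.NOThreeL.RWide.ParQ.AOne

/-!
# `parT`: the plug of (A1)

* **`parT_of_two`** : `parT` from `Rts` and (A2) (helper528 #27296, helper860 #27934).
-/

set_option autoImplicit false
set_option linter.unusedSectionVars false

namespace Cfsg.Agent.Omega.NOThreeL.RWide.ParQ

open Subgroup Cfsg Cfsg.Agent.Omega.MinPar Cfsg.Agent.Omega.Frame
open Cfsg.Agent.ZN (zc o2 zl)
open Cfsg.Agent.ZN.ChoiceBase (cj AA)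
open Cfsg.Agent.MinSimple.MinParabolic (IsMinPar)
open Cfsg.Agent.Omega.EDel.ThmU (XF)
open Cfsg.Agent.Omega.NOThreeL.RWide.TAct (TT BB Tf OT)
open Cfsg.Agent.Omega.NOThreeL.RWide.UniT (Rts parT_of')

universe u v

variable {G : Type u} [Group G] [Finite G] {ι : Type v} [Finite ι] [Nonempty ι] {S : Sylow 2 G} {V : Subgroup G}
  {N l E : ι → Subgroup G}

/-- (A1) from `Rts` -/
theorem a1 (hc : IsCharacteristicTwoType G) (h : TFm S V N l E)
    (three : ∀ i j : ι, ∃ k, k ≠ i ∧ k ≠ j)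
    (ln : ∀ c ∈ centralizer (zc (S : Subgroup G) : Set G), ∀ b, ∃ b', cj c (l b) = l b')
    (r : Rts (TT (S : Subgroup G) N) (OT (TT (S : Subgroup G) N)) N l) (j : ι) (P : Subgroup G)
    (hP : IsMinPar (TT (S : Subgroup G) N) P) (hPY : P ≤ YY (TAct.FF (S : Subgroup G) N l) j)
    (hmv : ¬ P ≤ centralizer (TAct.FF (S : Subgroup G) N l j : Set G))
    (hU : zl (TT (S : Subgroup G) N) P ≤ ⨆ b, l b) (b : ι) : P ≤ normalizer (N b : Set G) :=
  case_zl h hc three ln (fun b => by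
    obtain ⟨A, hA, h1, -⟩ := r.pure b
    exact ⟨A, AA_mx hA, h1⟩) hP hPY hmv hU b

/-- **`parT`** from `Rts` and (A2). -/
theorem parT_of_two (hFF : FFThm.Stmt.{u}) (hc : IsCharacteristicTwoType G) (h : TFm S V N l E)
    (three : ∀ i j : ι, ∃ k, k ≠ i ∧ k ≠ j)
    (ln : ∀ c ∈ centralizer (zc (S : Subgroup G) : Set G), ∀ b, ∃ b', cj c (l b) = l b')
    (r : Rts (TT (S : Subgroup G) N) (OT (TT (S : Subgroup G) N)) N l)
    (A2 : ∀ j P, UniT.Fr (TT (S : Subgroup G) N) (OT (TT (S : Subgroup G) N)) P N l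
        (fun c => XS (zc (TT (S : Subgroup G) N)) (XF (TAct.FF (S : Subgroup G) N l) j c)) j →
      P ≤ YY (TAct.FF (S : Subgroup G) N l) j → ¬ zl (TT (S : Subgroup G) N) P ≤ ⨆ b, l b →
      ∃ A ∈ AA (OT (TT (S : Subgroup G) N)), ¬ A ≤ o2 P) :
    ∀ j P, IsMinPar (TT (S : Subgroup G) N) P → P ≤ YY (TAct.FF (S : Subgroup G) N l) j →
      P ≤ centralizer (TAct.FF (S : Subgroup G) N l j : Set G) ∨ ∀ i, P ≤ normalizer (N i : Set G) :=
  parT_of' hFF hc h three ln r (a1 hc h three ln r) A2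

end Cfsg.Agent.Omega.NOThreeL.RWide.ParQ
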