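import Cfsg.Agent.Omega.NOThreeL.RWide.ParQ.PlugA
import Cfsg.Agent.Omega.NOThreeL.RWide.UniT.ATwo
import Cfsg.Agent.Omega.NOThreeL.RWide.UniT.LamJ

/-!
# `parT` over `Rts`

* **`parT_of_rts`** : `parT` (helper848 #27137) from `Rts`: (A1) = `a1`, (A2) = helper528's `Fr.atwo`, active = helper655's
  `Act.active'`.
-/

set_option autoImplicit false
set_option linter.unusedSectionVars false

namespace Cfsg.Agent.Omega.NOThreeL.RWide.ParQ

open Subgroup Cfsg Cfsg.Agent.Omega.MinPar Cfsg.Agent.Omega.Frame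
open Cfsg.Agent.ZN (zc o2 zl)
open Cfsg.Agent.ZN.ChoiceBase (cj AA)
open Cfsg.Agent.MinSimple.MinParabolic (IsMinPar)
open Cfsg.Agent.Omega.EDel.ThmU (XF)
open Cfsg.Agent.Omega.NOThreeL.RWide.TAct (TT BB Tf OT)
open Cfsg.Agent.Omega.NOThreeL.RWide.UniT (Rts)

universe u v

variable {G : Type u} [Group G] [Finite G] {ι : Type v} [Finite ι] [Nonempty ι] {S : Sylow 2 G} {V : Subgroup G}
  {N l E : ι → Subgroup G}

/-- **`parT`** over `Rts`. -/
theorem parT_of_rts (hFF : FFThm.Stmt.{u}) (hc : IsCharacteristicTwoType G) (h : TFm S V N l E)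
    (three : ∀ i j : ι, ∃ k, k ≠ i ∧ k ≠ j)
    (ln : ∀ c ∈ centralizer (zc (S : Subgroup G) : Set G), ∀ b, ∃ b', cj c (l b) = l b')
    (r : Rts (TT (S : Subgroup G) N) (OT (TT (S : Subgroup G) N)) N l) :
    ∀ j P, IsMinPar (TT (S : Subgroup G) N) P → P ≤ YY (TAct.FF (S : Subgroup G) N l) j →
      P ≤ centralizer (TAct.FF (S : Subgroup G) N l j : Set G) ∨ ∀ i, P ≤ normalizer (N i : Set G) :=
  parT_of_two hFF hc h three ln r fun j _ hfr _ hU =>
    hfr.atwo hFF (UniT.lamj h.toBls (ParA.Glue.typ0 h three) j) hU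

end Cfsg.Agent.Omega.NOThreeL.RWide.ParQ
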